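import Mathlib
import Cfsg.Agent.Lib.Helper48.Dickson.Packages
import Cfsg.Agent.Lib.Helper48.Dickson.TorusPlus
import Cfsg.Agent.Lib.Helper01.SNCX7
import Cfsg.Agent.Lib.Helper93.SNCX5
import Cfsg.Agent.Lib.Helper95.SNSmall
import Cfsg.Agent.Lib.Helper52.SNCDihedral

set_option autoImplicit false

/-! # The converse half of S4073: in `PSL(2,2^n)` with `2^n - 1` prime every non-abelian subgroup
is self-normalizing (on top of the Dickson structure). -/

namespace Cfsg.Agent.Lib.Helper48.SNC

open Cfsg.Agent.Lib.Helper48.Dickson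

/-- commutativity of a subgroup, elementwise -/
theorem isMulCommutative_iff {G : Type*} [Group G] (K : Subgroup G) :
    IsMulCommutative K ↔ ∀ a ∈ K, ∀ b ∈ K, a * b = b * a := by
  constructor
  · intro h a ha b hb
    exact congrArg Subtype.val (h.is_comm.comm (⟨a, ha⟩ : K) ⟨b, hb⟩)
  · intro h
    exact ⟨⟨fun a b => Subtype.ext (h a.1 a.2 b.1 b.2)⟩⟩

theorem not_comm_of_le {G : Type*} [Group G] {H M : Subgroup G} (hHM : H ≤ M)
    (hH : ¬ IsMulCommutative H) : ¬ IsMulCommutative M := by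
  intro hM
  apply hH
  rw [isMulCommutative_iff] at hM ⊢
  exact fun a ha b hb => hM a (hHM ha) b (hHM hb)

theorem not_comm_subgroupOf {G : Type*} [Group G] {H M : Subgroup G} (hHM : H ≤ M)
    (hH : ¬ IsMulCommutative H) : ¬ IsMulCommutative (H.subgroupOf M) := by
  intro hc
  apply hH
  rw [isMulCommutative_iff] at hc ⊢
  intro a ha b hb
  have := hc ⟨a, hHM ha⟩ (by simpa [Subgroup.mem_subgroupOf] using ha) ⟨b, hHM hb⟩
    (by simpa [Subgroup.mem_subgroupOf] using hb)
  exact congrArg Subtype.val this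

theorem le_of_subgroupOf_eq_top {G : Type*} [Group G] {H M : Subgroup G}
    (h : H.subgroupOf M = ⊤) : M ≤ H := by
  intro x hx
  have : (⟨x, hx⟩ : M) ∈ H.subgroupOf M := by rw [h]; trivial
  simpa [Subgroup.mem_subgroupOf] using this

/-- transport of "normal non-abelian subgroups are everything" along an isomorphism -/
theorem le_of_iso {G X : Type*} [Group G] [Group X] (H M : Subgroup G) (hHM : H ≤ M)
    (hn : (H.subgroupOf M).Normal) (hH : ¬ IsMulCommutative H) (φ : M ≃* X)
    (hX : ∀ N : Subgroup X, N.Normal → ¬ IsMulCommutative N → N = ⊤) : M ≤ H := by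
  have h1 : ((H.subgroupOf M).map φ.toMonoidHom).Normal := hn.map _ φ.surjective
  have h2 : ¬ IsMulCommutative ((H.subgroupOf M).map φ.toMonoidHom) := by
    intro hc
    apply not_comm_subgroupOf hHM hH
    rw [isMulCommutative_iff] at hc ⊢
    intro a ha b hb
    have ha' : φ a ∈ (H.subgroupOf M).map φ.toMonoidHom := Subgroup.mem_map_of_mem _ ha
    have hb' : φ b ∈ (H.subgroupOf M).map φ.toMonoidHom := Subgroup.mem_map_of_mem _ hb
    have := hc _ ha' _ hb'
    rw [← map_mul, ← map_mul] at this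
    exact φ.injective this
  have h3 := hX _ h1 h2
  apply le_of_subgroupOf_eq_top
  rw [eq_top_iff]
  intro x _
  have : φ x ∈ (H.subgroupOf M).map φ.toMonoidHom := by rw [h3]; trivial
  obtain ⟨y, hy, hyx⟩ := this
  have : y = x := φ.injective hyx
  rw [← this]; exact hy


/-- the `S₄` data: a non-abelian `2`-subgroup -/
theorem s4_data : ∃ a b : Equiv.Perm (Fin 4), a ^ 4 = 1 ∧ a ≠ 1 ∧ b ^ 2 = 1 ∧ b ≠ 1 ∧
    b * a * b⁻¹ = a⁻¹ ∧ a * b ≠ b * a := by
  refine ⟨c[0, 1, 2, 3], c[0, 2], ?_, ?_, ?_, ?_, ?_, ?_⟩ <;> decide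

section

variable {F : Type*} [Field F] [Fintype F] [CharP F 2]

local notation "PSL2" => Matrix.ProjectiveSpecialLinearGroup (Fin 2) F

omit [CharP F 2] in
/-- the order of `PSL(2, 2^n)` -/
theorem card_psl2_even (n : ℕ) (hn : 1 ≤ n) (hF : Fintype.card F = 2 ^ n) :
    Nat.card PSL2 = 2 ^ n * ((2 ^ n) ^ 2 - 1) := by
  have h := card_psl2_mul (F := F)
  rw [hF] at h
  have hg : Nat.gcd 2 (2 ^ n - 1) = 1 := by
    have hodd : ¬ 2 ∣ 2 ^ n - 1 := by
      have h2 : 2 ∣ 2 ^ n := dvd_pow_self 2 (by omega)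
      have hpos : 0 < 2 ^ n := by positivity
      omega
    exact (Nat.coprime_primes Nat.prime_two Nat.prime_two).1 |> fun _ =>
      (Nat.Prime.coprime_iff_not_dvd Nat.prime_two).2 hodd
  rw [hg, mul_one] at h
  exact h


theorem bot_comm {G : Type*} [Group G] : IsMulCommutative (⊥ : Subgroup G) := by
  rw [isMulCommutative_iff]
  intro a ha b hb
  rw [Subgroup.mem_bot] at ha hb
  rw [ha, hb]

theorem sn_psl2 (n : ℕ) (hn : 2 ≤ n) (hF : Fintype.card F = 2 ^ n) (hr : (2 ^ n - 1).Prime)
    [IsSimpleGroup PSL2] (H : Subgroup PSL2) (hH : ¬ IsMulCommutative H) :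
    Subgroup.normalizer (H : Set PSL2) = H := by
  classical
  have hnp : n.Prime := (Nat.prime_of_pow_sub_one_prime (by omega) hr).2
  set D := dstruct (tPack (F := F) 2) (uPack 2) with hD
  have hHM : H ≤ Subgroup.normalizer (H : Set PSL2) := Subgroup.le_normalizer
  refine le_antisymm ?_ hHM
  have hnorm : (H.subgroupOf (Subgroup.normalizer (H : Set PSL2))).Normal :=
    Subgroup.normal_in_normalizer
  have hcardG := card_psl2_even (F := F) n (by omega) hF
  rcases D.outcome2 (Subgroup.normalizer (H : Set PSL2)) with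
    ⟨g, hg, hc, k, hk, hcyc | ⟨⟨φ⟩⟩⟩ | hbot | ⟨g, hg, hp, hle⟩ | ⟨⟨φ⟩⟩ | ⟨⟨φ⟩⟩ | ⟨⟨φ⟩⟩ |
      ⟨Q, hQM, hQp, P, k, hP, hQ, hN, hcardM, hk⟩
  · -- cyclic
    exfalso
    apply not_comm_of_le hHM hH
    haveI := hcyc.1
    rw [isMulCommutative_iff]
    intro a ha b hb
    have := (IsCyclic.commGroup (α := Subgroup.normalizer (H : Set PSL2))).mul_comm ⟨a, ha⟩ ⟨b, hb⟩
    exact congrArg Subtype.val this
  · -- dihedral
    have hkodd : Odd k := by
      have h1 : Nat.Coprime k 2 := Nat.Coprime.coprime_dvd_left hk hc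
      exact Nat.Coprime.odd_of_right h1
    exact le_of_iso H _ hHM hnorm hH φ (fun N hN hNc => by
      exact Cfsg.Agent.Lib.Helper52.SNC.nnt_dihedral k hkodd N hN hNc)
  · -- bot
    exfalso
    apply not_comm_of_le hHM hH
    rw [hbot]
    exact bot_comm
  · -- Borel
    obtain ⟨S, hS⟩ := D.comp_sylow hg hp
    have hcardC : Nat.card (D.comp g) = (2 ^ n - 1) + 1 := by
      have hpos : 0 < 2 ^ n := by positivity
      have hfac : (2 ^ n * ((2 ^ n) ^ 2 - 1)).factorization 2 = n := by
        have h2 : 2 ∣ (2 ^ n) ^ 2 := by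
          rw [← pow_mul]; exact dvd_pow_self 2 (by omega)
        have hpos2 : 0 < (2 ^ n) ^ 2 := by positivity
        have hodd : ¬ 2 ∣ (2 ^ n) ^ 2 - 1 := by omega
        have hne : (2 ^ n) ^ 2 - 1 ≠ 0 := by
          intro h0; apply hodd; rw [h0]; exact dvd_zero 2
        rw [Nat.factorization_mul (by positivity) hne]
        simp [Nat.factorization_eq_zero_of_not_dvd hodd, Nat.Prime.factorization_pow Nat.prime_two]
      have h1 : Nat.card (S : Subgroup PSL2) = 2 ^ n := by
        rw [Sylow.card_eq_multiplicity, hcardG, hfac]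
      rw [← hS, h1]
      omega
    have := Cfsg.Agent.Lib.Helper01.SNC.borel_abstract (D.comp g) (2 ^ n - 1) hr (D.comp_comm g hg) hp hcardC
      (D.u_not_dvd g hg hp) (D.u_cyc g hg hp) (D.u_free g hg hp) H (hHM.trans hle) hH
    exact hle.trans this
  · -- A4
    exact le_of_iso H _ hHM hnorm hH φ (fun N hN hNc => by
      haveI := hN; exact Cfsg.Agent.Lib.Helper95.SNSmall.eq_top_of_equiv_A4 (MulEquiv.refl _) N hNc)
  · -- S4
    exfalso
    obtain ⟨a, b, ha4, ha1, hb2, hb1, hconj, hnc⟩ := s4_data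
    have hA4 : ((φ.symm a : Subgroup.normalizer (H : Set PSL2)) : PSL2) ^ 4 = 1 := by
      rw [← Subgroup.coe_pow, ← map_pow, ha4, map_one, Subgroup.coe_one]
    have hA1 : ((φ.symm a : Subgroup.normalizer (H : Set PSL2)) : PSL2) ≠ 1 := by
      intro h
      apply ha1
      have h' : φ.symm a = 1 := Subtype.ext h
      rw [← map_one φ.symm] at h'
      exact φ.symm.injective h'
    have hB2 : ((φ.symm b : Subgroup.normalizer (H : Set PSL2)) : PSL2) ^ 2 = 1 := by
      rw [← Subgroup.coe_pow, ← map_pow, hb2, map_one, Subgroup.coe_one]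
    have hB1 : ((φ.symm b : Subgroup.normalizer (H : Set PSL2)) : PSL2) ≠ 1 := by
      intro h
      apply hb1
      have h' : φ.symm b = 1 := Subtype.ext h
      rw [← map_one φ.symm] at h'
      exact φ.symm.injective h'
    have hconj' : ((φ.symm b : Subgroup.normalizer (H : Set PSL2)) : PSL2) *
        ((φ.symm a : Subgroup.normalizer (H : Set PSL2)) : PSL2) *
        ((φ.symm b : Subgroup.normalizer (H : Set PSL2)) : PSL2)⁻¹ =
        ((φ.symm a : Subgroup.normalizer (H : Set PSL2)) : PSL2)⁻¹ := by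
      rw [← Subgroup.coe_inv, ← Subgroup.coe_inv, ← Subgroup.coe_mul, ← Subgroup.coe_mul,
        ← map_inv, ← map_inv, ← map_mul, ← map_mul, hconj]
    have hnc' : ((φ.symm a : Subgroup.normalizer (H : Set PSL2)) : PSL2) *
        ((φ.symm b : Subgroup.normalizer (H : Set PSL2)) : PSL2) ≠
        ((φ.symm b : Subgroup.normalizer (H : Set PSL2)) : PSL2) *
        ((φ.symm a : Subgroup.normalizer (H : Set PSL2)) : PSL2) := by
      intro h
      apply hnc
      rw [← Subgroup.coe_mul, ← Subgroup.coe_mul, ← map_mul, ← map_mul] at h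
      exact φ.symm.injective (Subtype.ext h)
    generalize ((φ.symm a : Subgroup.normalizer (H : Set PSL2)) : PSL2) = A at hA4 hA1 hconj' hnc'
    generalize ((φ.symm b : Subgroup.normalizer (H : Set PSL2)) : PSL2) = B at hB2 hB1 hconj' hnc'
    have hp2 : IsPGroup 2 (Subgroup.zpowers A) := by
      intro x
      refine ⟨2, ?_⟩
      obtain ⟨k, hk⟩ := Subgroup.mem_zpowers_iff.1 x.2
      apply Subtype.ext
      rw [Subgroup.coe_pow, Subgroup.coe_one, ← hk, ← zpow_natCast, ← zpow_mul, mul_comm,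
        zpow_mul, zpow_natCast]
      norm_num
      rw [hA4, one_zpow]
    have hne : Subgroup.zpowers A ≠ ⊥ := by
      intro h
      have : A ∈ Subgroup.zpowers A := Subgroup.mem_zpowers A
      rw [h, Subgroup.mem_bot] at this
      exact hA1 this
    obtain ⟨g0, hg0, hpg0, hle0⟩ := D.u_sylow _ hp2 hne
    have hAmem : A ∈ D.comp g0 := hle0 (Subgroup.mem_zpowers A)
    have hcompA : D.comp A = D.comp g0 := D.comp_eq g0 hg0 A hAmem hA1
    have hpA : IsPGroup 2 (D.comp A) := by rw [hcompA]; exact hpg0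
    have hAinv : D.comp A⁻¹ = D.comp A :=
      D.comp_eq A hA1 A⁻¹ (inv_mem (D.mem_comp A)) (inv_ne_one.2 hA1)
    have hBn : B ∈ nrm (D.comp A) := by
      rw [D.mem_nrm_comp_iff hA1, hconj', hAinv]
    have hBmem : B ∈ D.comp A := by
      by_contra hB
      apply D.u_not_dvd A hA1 hpA B hBn hB
      rw [orderOf_eq_prime hB2 hB1]
    exact hnc' (D.comp_comm A hA1 A (D.mem_comp A) B hBmem)
  · -- A5
    refine le_of_iso H _ hHM hnorm hH φ (fun N hN hNc => ?_)
    rcases hN.eq_bot_or_eq_top with h | h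
    · exfalso; apply hNc; rw [h]; exact bot_comm
    · exact h
  · -- two-transitive
    obtain ⟨a, ha⟩ := (IsPGroup.iff_card).1 hQp
    rw [hQ] at ha
    have ha1 : 1 ≤ a := by
      rcases Nat.eq_zero_or_pos a with h0 | h0
      · rw [h0, pow_zero] at ha; omega
      · exact h0
    have hPeven : ∃ t, P = 2 * t := ⟨2 ^ (a - 1), by rw [ha, ← pow_succ']; congr 1; omega⟩
    have hk' : k = P - 1 := by
      rcases hk with h | h
      · exact h
      · obtain ⟨t, ht⟩ := hPeven; omega
    have hdvd : Nat.card (Subgroup.normalizer (H : Set PSL2)) ∣ Nat.card PSL2 :=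
      Subgroup.card_subgroup_dvd_card _
    rw [hcardM, hcardG, hk', ha] at hdvd
    rcases Cfsg.Agent.Lib.Helper93.SNC.num_two_trans hnp ha1 hdvd with h1 | h1
    · -- order six
      have h6 : Nat.card (Subgroup.normalizer (H : Set PSL2)) = 6 := by
        rw [hcardM, hk', ha, h1]; norm_num
      exact le_of_subgroupOf_eq_top (Cfsg.Agent.Lib.Helper95.SNSmall.eq_top_of_card_six h6 _ (not_comm_subgroupOf hHM hH))
    · -- everything
      have htop : Subgroup.normalizer (H : Set PSL2) = ⊤ := by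
        rw [← Subgroup.card_eq_iff_eq_top, hcardM, hk', ha, h1, hcardG]
        have : 1 ≤ 2 ^ n := Nat.one_le_two_pow
        have h2 : (2 ^ n) ^ 2 - 1 = (2 ^ n + 1) * (2 ^ n - 1) := by
          have := Nat.sq_sub_sq (2 ^ n) 1
          rw [one_pow] at this
          exact this
        rw [h2]; ring
      have hN : H.Normal := Subgroup.normalizer_eq_top_iff.1 htop
      rcases hN.eq_bot_or_eq_top with h | h
      · exfalso; apply hH; rw [h]; exact bot_comm
      · rw [h]; exact le_top

end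

/-- the converse half of S4073 -/
theorem sn_of_iso {G : Type*} [Group G] [IsSimpleGroup G] (n : ℕ) (hn : 2 ≤ n)
    (hr : (2 ^ n - 1).Prime)
    (e : G ≃* Matrix.ProjectiveSpecialLinearGroup (Fin 2) (GaloisField 2 n))
    (H : Subgroup G) (hH : ¬ IsMulCommutative H) : Subgroup.normalizer (H : Set G) = H := by
  classical
  letI : Fintype (GaloisField 2 n) := Fintype.ofFinite _
  have hF : Fintype.card (GaloisField 2 n) = 2 ^ n := by
    rw [Fintype.card_eq_nat_card]; exact GaloisField.card 2 n (by omega)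
  haveI : IsSimpleGroup (Matrix.ProjectiveSpecialLinearGroup (Fin 2) (GaloisField 2 n)) :=
    e.symm.isSimpleGroup
  have hH' : ¬ IsMulCommutative (H.map e.toMonoidHom) := by
    intro hc
    apply hH
    rw [isMulCommutative_iff] at hc ⊢
    intro a ha b hb
    have := hc (e a) (Subgroup.mem_map_of_mem _ ha) (e b) (Subgroup.mem_map_of_mem _ hb)
    rw [← map_mul, ← map_mul] at this
    exact e.injective this
  have h1 := sn_psl2 (F := GaloisField 2 n) n hn hF hr (H.map e.toMonoidHom) hH'
  have h2 : (Subgroup.normalizer (H : Set G)).map e.toMonoidHom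
      = Subgroup.normalizer ((H.map e.toMonoidHom : Subgroup _) : Set _) := by
    have := Subgroup.map_equiv_normalizer_eq H e
    simpa using this
  rw [← h2] at h1
  exact Subgroup.map_injective e.injective h1

end Cfsg.Agent.Lib.Helper48.SNC
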